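import Cfsg.Agent.H194.MOwn.PslCore
import Cfsg.Agent.H957.T5RowPSL
import Cfsg.Agent.H106.MBase

/-!
# The row `PSL_n(q)`, `p ≥ 5` dividing `q` (all automorphisms of order `p`, all `n ≥ 2`)
-/

set_option autoImplicit false

universe u

namespace Cfsg.Agent.H194.MOwn

open Matrix
open Cfsg.Agent.H957.T5V Cfsg.Agent.H957.T5M Cfsg.Agent.H957.T5Tr
open Cfsg.Agent.H199.PslAut
open Cfsg.Agent.ClassicalGeometry.AutPSL.Root
open Cfsg.Agent.ClassicalGeometry.AutPSL.Auto
open Cfsg.Agent.H897.MeetPSL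
open Cfsg.Agent.H903.SylSemi (Ind scal scal_apply)

theorem mrow_psl_type {F : Type} [Field F] [Fintype F] {n p : ℕ} (hn : 2 ≤ n) [Fact p.Prime]
    (hp5 : 5 ≤ p) [CharP F p] :
    MRow p (Matrix.ProjectiveSpecialLinearGroup (Fin n) F) := by
  have hp : p.Prime := Fact.out
  have : Nonempty (Fin n) := ⟨⟨0, by omega⟩⟩
  have : Nontrivial (Fin n → F) := Function.nontrivial
  refine mrow_of (F := F) hp (π := (pr : Matrix.SpecialLinearGroup (Fin n) F →*
      Matrix.ProjectiveSpecialLinearGroup (Fin n) F)) pr_surjective (ρ := rho n F) rho_injective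
    ?_ (W := fun y => ∃ θ : F ≃+* F, Semi θ y) ?_ ?_ ?_ ?_ ?_
  · intro s
    refine ⟨fun u v => ?_, fun b v => ?_⟩
    · rw [rho_apply, rho_apply, rho_apply, mulVec_add]
    · rw [rho_apply, rho_apply, mulVec_smul]
      rfl
  · rintro y y' ⟨θ, h⟩ ⟨θ', h'⟩
    exact ⟨θ * θ', h.mul h'⟩
  · intro s
    refine ⟨1, fun u v => ?_, fun b v => ?_⟩
    · rw [rho_apply, rho_apply, rho_apply, mulVec_add]
    · rw [rho_apply, rho_apply, mulVec_smul]
      rfl
  · intro β hβ
    have hP : IsPGroup p ↥(Subgroup.zpowers β) :=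
      IsPGroup.of_card (n := 1) (by rw [Nat.card_zpowers, hβ, pow_one])
    obtain ⟨g, σ, rfl⟩ := form_of_pgroup hn (by omega) hP (Subgroup.mem_zpowers β)
    exact ⟨smap g σ, ⟨σ, (semi_smap g σ).1, (semi_smap g σ).2⟩, ind_smap g σ⟩
  · rintro y ⟨θ, hθ⟩ hy
    obtain ⟨A, rfl⟩ := exists_smap (show Cfsg.Agent.H903.SylSemi.Semi F y θ from ⟨hθ.add, hθ.smul⟩)
    have h1 : Psi n F A * phi n F θ = 1 :=
      Ind.unique pr_surjective rho_injective (ind_smap A θ) hy
    obtain ⟨⟨u, rfl⟩, h2⟩ := Psi_phi_eq hn (g := A) (σ := θ) (τ := 1) (by rw [h1, map_one])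
    refine ⟨u, ?_⟩
    ext v : 1
    rw [smap_apply, h2, scal_apply, Cfsg.Agent.H199.PslAut.coe_scal]
    change (scalar (Fin n) (u : F)) *ᵥ v = (u : F) • v
    rw [Matrix.scalar_apply, Matrix.diagonal_const_mulVec]
  · rintro y z ⟨θ, hy⟩ ⟨θ', hz⟩ hyp hyn hzp hzn
    obtain ⟨g, hg, i, j, h⟩ := mp_own (p := p) (V := Fin n → F) hp5
      (by rw [Module.finrank_fintype_fun_eq_card, Fintype.card_fin]; exact hn) hy hyp hyn
      hz hzp hzn
    have hd : (LinearMap.toMatrix' (g : (Fin n → F) →ₗ[F] (Fin n → F))).det = 1 := by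
      rw [LinearMap.det_toMatrix', ← LinearEquiv.coe_det, hg, Units.val_one]
    refine ⟨⟨LinearMap.toMatrix' (g : (Fin n → F) →ₗ[F] (Fin n → F)), hd⟩, i, j, ?_⟩
    have hs : rho n F ⟨LinearMap.toMatrix' (g : (Fin n → F) →ₗ[F] (Fin n → F)), hd⟩ = toA g := by
      ext v : 1
      refine (rho_apply _ v).trans ?_
      change (LinearMap.toMatrix' (g : (Fin n → F) →ₗ[F] (Fin n → F))) *ᵥ v = g v
      rw [LinearMap.toMatrix'_mulVec]
      rfl
    rw [hs]
    exact h

/-- A finite field has a copy in `Type`. -/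
theorem exists_type (F : Type u) [Field F] [Fintype F] :
    ∃ (F' : Type) (_ : Field F') (_ : Fintype F'), Nonempty (F ≃+* F') := by
  have : Small.{0} F := inferInstance
  have : Fintype (Shrink.{0} F) := Fintype.ofEquiv F (equivShrink F)
  exact ⟨Shrink.{0} F, inferInstance, this, ⟨(Shrink.ringEquiv F).symm⟩⟩

/-- **The row `PSL_n(q)` in own characteristic.** -/
theorem mrow_psl_own {S : Type*} [Group S] {F : Type*} [Field F] [Fintype F] {n p : ℕ} (hn : 2 ≤ n)
    [Fact p.Prime] (hp5 : 5 ≤ p) [CharP F p]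
    (e : S ≃* Matrix.ProjectiveSpecialLinearGroup (Fin n) F) : MRow p S := by
  obtain ⟨F', _, _, ⟨f⟩⟩ := exists_type F
  have : CharP F' p := (RingHom.charP_iff f.toRingHom f.injective p).1 inferInstance
  refine MRow.congr (e.trans ?_) (mrow_psl_type (F := F') hn hp5)
  let g : Matrix.SpecialLinearGroup (Fin n) F ≃* Matrix.SpecialLinearGroup (Fin n) F' :=
    { Matrix.SpecialLinearGroup.map f.toRingHom with
      invFun := Matrix.SpecialLinearGroup.map f.symm.toRingHom
      left_inv := fun x => by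
        ext i j
        simp
      right_inv := fun x => by
        ext i j
        simp }
  exact QuotientGroup.congr _ _ g (by
    ext x
    constructor
    · rintro ⟨y, hy, rfl⟩
      rw [Subgroup.mem_center_iff]
      intro z
      obtain ⟨w, rfl⟩ := g.surjective z
      have := Subgroup.mem_center_iff.1 hy w
      change g w * g y = g y * g w
      rw [← map_mul, this, map_mul]
    · intro hx
      refine ⟨g.symm x, ?_, by simp⟩
      change g.symm x ∈ Subgroup.center _
      rw [Subgroup.mem_center_iff]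
      intro z
      apply g.injective
      have := Subgroup.mem_center_iff.1 hx (g z)
      rw [map_mul, map_mul, g.apply_symm_apply]
      exact this)

/-- The form of helper106. -/
theorem mrow_psl2_own {F : Type u} [Field F] [Fintype F] (p : ℕ) [Fact p.Prime] [CharP F p]
    (h5 : 5 ≤ p) {S : Type u} [Group S]
    (e : S ≃* Matrix.ProjectiveSpecialLinearGroup (Fin 2) F) : MRow p S :=
  mrow_psl_own le_rfl h5 e

end Cfsg.Agent.H194.MOwn
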