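import Cfsg.Agent.H194.MOwn.OmCore
import Cfsg.Agent.H152.MeetOmega
import Cfsg.Agent.H106.MBase

/-!
# The rows `PΩ_n^ε(q)` in own characteristic `p ≥ 5` (all automorphisms of order `p`)
-/

set_option autoImplicit false

namespace Cfsg.Agent.H194.MOwn.Om

open Cfsg QuadraticMap Matrix
open Cfsg.Agent.LieClassical.OrthCore Cfsg.Agent.LieClassical.OrthTrans
open Cfsg.Agent.LieClassical.QuadForms
open Cfsg.Agent.AutOrth.Main Cfsg.Agent.H208.Dict Cfsg.Agent.ClassicalGeometry.OrthAut1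
open Cfsg.Agent.H957.T5V (toA toA_apply IsScal)
open Cfsg.Agent.H957.T5M Cfsg.Agent.H957.T5Tr
open Cfsg.Agent.H152.MeetOmega

/-- The general row. -/
theorem mrow_of_good {F : Type*} [Field F] [Finite F] {ι : Type} [Fintype ι] [DecidableEq ι]
    {Q : QuadraticForm F (ι → F)} (hG : Good Q) (hd : 7 ≤ Fintype.card ι) {p : ℕ} [Fact p.Prime]
    [CharP F p] (hp5 : 5 ≤ p)
    (hall : ∀ β : MulAut (POmega F ⇑Q), orderOf β = p → AutOrth.Main.Ind ⇑Q β) :
    MRow p (POmega F ⇑Q) := by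
  have hp : p.Prime := Fact.out
  have hfr : Module.finrank F (ι → F) = Fintype.card ι := Module.finrank_fintype_fun_eq_card F
  have : Nonempty ι := Fintype.card_pos_iff.1 (by omega)
  have : Nontrivial (ι → F) := Function.nontrivial
  refine mrow_of (F := F) hp (π := proj ⇑Q) (proj_surjective ⇑Q) (ρ := rho ⇑Q)
    (rho_injective ⇑Q) ?_ (W := fun y => y ∈ ClassicalGeometry.OrthSemi.Gam Q) ?_ ?_ ?_ ?_ ?_
  · intro s
    refine ⟨fun u v => ?_, fun b v => ?_⟩
    · rw [rho_apply, rho_apply, rho_apply, mulVec_add]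
    · rw [rho_apply, rho_apply, mulVec_smul]
      rfl
  · exact fun y y' h h' => mul_mem h h'
  · exact rho_mem_gam
  · intro β hβ
    obtain ⟨y, hy, h⟩ := exists_of_ind hG (hall β hβ)
    exact ⟨y, mem_gam_iff.2 hy, h⟩
  · exact fun y hy h => unique hG (mem_gam_iff.1 hy) h
  · rintro y z ⟨σ, l, hy⟩ ⟨τ, k, hz⟩ ⟨a, ha⟩ hyn ⟨b, hb⟩ hzn
    obtain ⟨g, hg, h⟩ := core hp5 hG (by omega) hy hz
      (exists_TS (p := p) (by omega) hG (by omega) hy ha hyn)
      (exists_TS (p := p) (by omega) hG (by omega) hz hb hzn)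
    obtain ⟨s, hs⟩ := (oe hG).surjective ⟨g, hg⟩
    refine ⟨s, 1, 1, ?_⟩
    have hsg : rho ⇑Q s = toA g := by
      ext v : 1
      rw [rho_apply, toA_apply, ← oe_apply hG s v, hs]
    rw [hsg, pow_one, pow_one]
    exact h

/-- **The row `PΩ_{2m+1}(q)` in own characteristic.** -/
theorem mrow_odd {S : Type*} [Group S] {F : Type*} [Field F] [Finite F] {m p : ℕ} (hm : 3 ≤ m)
    [Fact p.Prime] (hp5 : 5 ≤ p) [CharP F p] (e : S ≃* POmega F (quadFormOdd m F)) : MRow p S := by
  refine MRow.congr e ?_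
  have h2 : (2 : F) ≠ 0 := Cfsg.Agent.CpAut.PspRow.two_ne (p := p) Fact.out (by omega)
  have hall : ∀ β : MulAut (POmega F (quadFormOdd m F)), orderOf β = p →
    AutOrth.Main.Ind (quadFormOdd m F) β := fun β _ => all_odd hm h2 β
  clear e
  revert hall
  rw [← coe_oddForm]
  intro hall
  refine mrow_of_good (good_odd (by omega) h2) ?_ hp5 hall
  simp only [Fintype.card_sum, Fintype.card_unit, Fintype.card_fin]
  omega

/-- **The row `PΩ⁺_{2m}(q)` in own characteristic.** -/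
theorem mrow_plus {S : Type*} [Group S] {F : Type*} [Field F] [Finite F] {m p : ℕ} (hm : 4 ≤ m)
    [Fact p.Prime] (hp5 : 5 ≤ p) [CharP F p] (e : S ≃* POmega F (quadFormPlus m F)) : MRow p S := by
  refine MRow.congr e ?_
  have hall : ∀ β : MulAut (POmega F (quadFormPlus m F)), orderOf β = p →
      AutOrth.Main.Ind (quadFormPlus m F) β := by
    intro β hβ
    have hP : IsPGroup p ↥(Subgroup.zpowers β) :=
      IsPGroup.of_card (n := 1) (by rw [Nat.card_zpowers, hβ, pow_one])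
    exact ind_plus hp5 hm hP β (Subgroup.mem_zpowers β)
  clear e
  revert hall
  rw [← coe_plusForm]
  intro hall
  refine mrow_of_good (good_plus (by omega)) ?_ hp5 hall
  simp only [Fintype.card_sum, Fintype.card_fin]
  omega

/-- **The row `PΩ⁻_{2m+2}(q)` in own characteristic.** -/
theorem mrow_minus {S : Type*} [Group S] {F : Type*} [Field F] [Finite F] {m p : ℕ} (hm : 3 ≤ m)
    {a b : F} (hab : ∀ z₁ z₂ : F, z₁ ^ 2 + a * z₁ * z₂ + b * z₂ ^ 2 = 0 → z₁ = 0 ∧ z₂ = 0)
    [Fact p.Prime] (hp5 : 5 ≤ p) [CharP F p] (e : S ≃* POmega F (quadFormMinus m F a b)) :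
    MRow p S := by
  refine MRow.congr e ?_
  have hall : ∀ β : MulAut (POmega F (quadFormMinus m F a b)), orderOf β = p →
    AutOrth.Main.Ind (quadFormMinus m F a b) β := fun β _ => all_minus hm hab β
  clear e
  revert hall
  rw [← coe_minusForm]
  intro hall
  refine mrow_of_good (good_minus (by omega) hab) ?_ hp5 hall
  simp only [Fintype.card_sum, Fintype.card_fin]
  omega

end Cfsg.Agent.H194.MOwn.Om
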