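import Cfsg.Agent.H194.MOwn.SpCore

/-!
# The row `PSp_2m(q)` in own characteristic `p ≥ 5` (all automorphisms of order `p`)
-/

set_option autoImplicit false

namespace Cfsg.Agent.H194.MOwn.Spo

open Module Cfsg.Agent.ClassicalGeometry.SympBasic Cfsg.Agent.ClassicalGeometry.SympAutSemi
open Cfsg.Agent.ClassicalGeometry.SympGamma
open Cfsg.Agent.H957.T5V (IsScal Scl)
open Cfsg.Agent.H957.T5M Cfsg.Agent.H957.T5Tr
open Cfsg.Agent.H513.MeetPSp Cfsg.Agent.H903.SylSemi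

theorem toSemi5 {F : Type*} [Field F] {m : ℕ} {y : Equiv.Perm (VV m F)} {φ : F ≃+* F} {l : F}
    (h : IsSemi y φ l) : Cfsg.Agent.H957.T5V.Semi φ y := ⟨h.1, h.2.1⟩

/-- **The row `PSp_2m(q)` in own characteristic.** -/
theorem mrow_psp {S : Type*} [Group S] {F : Type} [Field F] [Fintype F] {m p : ℕ} (hm : 2 ≤ m)
    [Fact p.Prime] (hp5 : 5 ≤ p) [CharP F p] (e : S ≃* Cfsg.PSp m F) : MRow p S := by
  refine MRow.congr e ?_
  clear e
  have hp : p.Prime := Fact.out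
  have hpp2 : p ≠ 2 := by omega
  have hne : Nonempty (Fin m ⊕ Fin m) := ⟨Sum.inl ⟨0, by omega⟩⟩
  have : Nontrivial (VV m F) := Function.nontrivial
  have h2 : m = 2 → 3 ≤ Fintype.card F := fun _ =>
    Cfsg.Agent.CpAut.PspRow.card_ge hp hpp2
  have hπ : Function.Surjective
      (QuotientGroup.mk' (Subgroup.center (Matrix.symplecticGroup (Fin m) F))) :=
    QuotientGroup.mk'_surjective _
  refine mrow_of (F := F) (T := Cfsg.PSp m F) hp
    (π := QuotientGroup.mk' (Subgroup.center (Matrix.symplecticGroup (Fin m) F))) hπ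
    (ρ := rho m F) rho_injective (fun s => toSemi5 (isSemi_rho s))
    (W := fun y => y ∈ semiSim m F) (fun y y' h h' => mul_mem h h')
    (fun s => ⟨_, _, one_ne_zero, isSemi_rho s⟩) ?_ ?_ ?_
  · intro β hβ
    obtain ⟨g, rfl⟩ := mem_range hm h2 β (hp.odd_of_ne_two hpp2) (by
      rw [← hβ]; exact pow_orderOf_eq_one β)
    exact ⟨g, g.2, ind_Psi g⟩
  · intro y hy' hind
    have h1 : Psi m F ⟨y, hy'⟩ = 1 := Ind.unique hπ rho_injective (ind_Psi ⟨y, hy'⟩) hind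
    obtain ⟨a, ha⟩ := exists_scal_of_Psi_eq_one (by omega) _ h1
    refine ⟨a, ?_⟩
    ext1 v
    exact DFunLike.congr_fun ha v
  · rintro y z ⟨σ, l, hl, hy⟩ ⟨τ, k, hk, hz⟩ ⟨a, ha⟩ hyn ⟨b, hb⟩ hzn
    obtain ⟨n, c, l', hc, hyc, hl', hn, s, hs, h3, h4⟩ :=
      values (p := p) (by omega) hpp2 hl hy ha hyn
    obtain ⟨n', c', l'', hc', hzc, -, hn', s', hs', ⟨u, hu⟩, -⟩ :=
      values (p := p) (by omega) hpp2 hk hz hb hzn
    obtain ⟨A, i, h⟩ := core (p := p) (by omega) hp5 hn hz hs h3 h4 ⟨u, by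
      rw [hzc, sympForm_smul_right, hu]
      exact mul_ne_zero hc' hs'⟩
    refine ⟨A, i, 1, fun j => ?_⟩
    rw [pow_one]
    have hyn' : Scl F y n := ⟨c, hc, hyc⟩
    have hin := isSemi_pow hn i
    have h5 : Scl F (y ^ i * (rho m F A * z * (rho m F A)⁻¹))
        (n ^ i * (rho m F A * z * (rho m F A)⁻¹)) :=
      (hyn'.pow (toSemi5 hn) i).mul (toSemi5 hin) (Scl.refl _)
    have h6 := h5.pow (toSemi5 (hin.mul (isSemi_conj hz A))) (p ^ j)
    rw [h6.isScal_iff]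
    exact h j

end Cfsg.Agent.H194.MOwn.Spo
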