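import Cfsg.Agent.CpAut.OrthRow
import Cfsg.Agent.H353.TwoOrthTrans
import Cfsg.Agent.H957.T5Tr

/-!
# Pairs in own characteristic, orthogonal groups: the linear algebra

`exists_TS` : a non-scalar semisimilitude `y` of a quadratic space of dimension at least `7` over a
finite field of characteristic `p ≥ 5` (`p` odd) with scalar `p`-th power has a singular vector `e`
such that `e`, `y e` span a totally singular plane.
-/

set_option autoImplicit false

namespace Cfsg.Agent.H194.MOwn.Om

open QuadraticMap Cfsg.Agent.LieClassical.OrthCore Cfsg.Agent.LieClassical.OrthTrans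
open Cfsg.Agent.LieClassical.OrthFinite Cfsg.Agent.H353.TwoOrth Module

variable {F V : Type*} [Field F] [AddCommGroup V] [Module F V] {Q : QuadraticForm F V}

theorem sing_of_polar_self (h2 : (2 : F) ≠ 0) {x : V} (h : polar Q x x = 0) : Q x = 0 := by
  rw [polar_self'] at h
  exact (mul_eq_zero.1 h).resolve_left h2

/-- The adjoint of `N = n - 1` is `N' = n⁻¹ - 1`. -/
theorem adj {n : V ≃ₗ[F] V} (hn : n ∈ O Q) (x y : V) :
    polar Q (n x - x) y = polar Q x (n.symm y - y) := by
  rw [polar_sub_left, polar_sub_right]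
  have h := polar_map hn x (n.symm y)
  rw [LinearEquiv.apply_symm_apply] at h
  rw [h]

/-- **Linear case.** A nilpotent `n - 1 ≠ 0`, `n` an isometry: there is a singular vector in
`ker (n - 1)² ∖ ker (n - 1)`. -/
theorem exists_sing_jordan [Finite F] (h2 : (2 : F) ≠ 0) (hQ : Nondeg Q) (hd : 7 ≤ finrank F V)
    {n : V ≃ₗ[F] V} (hn : n ∈ O Q) (h1 : n ≠ 1)
    (hnil : IsNilpotent ((n : V →ₗ[F] V) - 1 : Module.End F V)) :
    ∃ e : V, Q e = 0 ∧ n e ≠ e ∧ n (n e - e) = n e - e := by
  have hfd : FiniteDimensional F V := Module.finite_of_finrank_pos (by omega)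
  set N : Module.End F V := (n : V →ₗ[F] V) - 1 with hN
  have hNa : ∀ x, N x = n x - x := fun x => rfl
  have hN0 : N ≠ 0 := by
    intro h0
    apply h1
    ext x
    have := LinearMap.congr_fun h0 x
    rw [hNa] at this
    exact sub_eq_zero.1 this
  -- the adjoint
  have hadj : ∀ x y, N y = 0 → polar Q (N x) y = 0 := by
    intro x y hy
    rw [hNa, adj hn]
    have h3 : n.symm y = y := by
      rw [LinearEquiv.symm_apply_eq]
      rw [hNa] at hy
      exact (sub_eq_zero.1 hy).symm
    rw [h3, sub_self, polar_zero_right]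
  have hadj2 : ∀ x y, N (N y) = 0 → polar Q (N (N x)) y = 0 := by
    intro x y hy
    rw [hNa (N x), adj hn]
    have h3 : N (n.symm y - y) = 0 := by
      have h4 : n (N (n.symm y - y)) = 0 := by
        have h5 : ∀ z, n (N z) = N (n z) := fun z => by
          rw [hNa, hNa, map_sub]
        rw [h5, map_sub, LinearEquiv.apply_symm_apply]
        have h6 : y - n y = -(N y) := by rw [hNa]; abel
        rw [h6, map_neg, hy, neg_zero]
      exact (LinearEquiv.map_eq_zero_iff n).1 h4
    exact hadj x _ h3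
  by_contra hcon
  push Not at hcon
  have hno : ∀ e, N (N e) = 0 → Q e = 0 → N e = 0 := by
    intro e he hQe
    by_contra hne
    rw [hNa, sub_eq_zero] at hne
    refine hcon e hQe hne ?_
    have := he
    rw [hNa (N e), hNa e, sub_eq_zero] at this
    exact this
  -- `N ^ 3 = 0`
  have hN3 : ∀ x, N (N (N x)) = 0 := by
    by_contra h3
    push Not at h3
    obtain ⟨x0, hx0⟩ := h3
    set j := nilpotencyClass N with hj
    have hV : Nontrivial V := ⟨⟨_, _, hx0⟩⟩
    have hne := pow_pred_nilpotencyClass hnil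
    rw [← hj] at hne
    have hz := pow_nilpotencyClass hnil
    rw [← hj] at hz
    have hj4 : 4 ≤ j := by
      by_contra hlt
      push Not at hlt
      apply hx0
      have h5 : N ^ 3 = 0 := by
        rw [show 3 = (3 - j) + j by omega, pow_add, hz, mul_zero]
      have := LinearMap.congr_fun h5 x0
      simpa [pow_succ] using this
    obtain ⟨x, hx⟩ : ∃ x, (N ^ (j - 1)) x ≠ 0 := by
      by_contra h6
      push Not at h6
      exact hne (LinearMap.ext h6)
    set w := (N ^ (j - 4)) x with hw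
    have e1 : N (N (N w)) = (N ^ (j - 1)) x := by
      rw [hw, show j - 1 = 3 + (j - 4) by omega, pow_add]
      simp [pow_succ]
    have e2 : N (N (N (N w))) = 0 := by
      have : N (N (N (N w))) = (N ^ j) x := by
        rw [hw, show j = 4 + (j - 4) by omega, pow_add]
        simp [pow_succ]
      rw [this, hz]
      rfl
    apply hx
    rw [← e1]
    apply hno (N (N w)) e2
    exact sing_of_polar_self h2 (hadj2 _ _ e2)
  -- dimensions
  set N2 : Module.End F V := N ^ 2 with hN2
  have hN2a : ∀ x, N2 x = N (N x) := fun x => by rw [hN2, pow_two]; rfl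
  have d1 := LinearMap.finrank_range_add_finrank_ker N2
  have hR2 : LinearMap.range N2 ≤ LinearMap.ker N := by
    rintro _ ⟨x, rfl⟩
    rw [LinearMap.mem_ker, hN2a, hN3]
  have hker : LinearMap.ker N ≤ LinearMap.ker N2 := by
    intro x hx
    rw [LinearMap.mem_ker] at hx ⊢
    rw [hN2a, hx, map_zero]
  have d2 : finrank F (LinearMap.range N2) ≤ finrank F (LinearMap.ker N) :=
    Submodule.finrank_mono hR2
  have d3 : finrank F (LinearMap.range N2) + finrank F (LinearMap.ker N) ≤
      finrank F (LinearMap.ker N2) := by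
    have h3 := LinearMap.finrank_range_add_finrank_ker (N.domRestrict (LinearMap.ker N2))
    have h4 : finrank F (LinearMap.ker (N.domRestrict (LinearMap.ker N2))) =
        finrank F (LinearMap.ker N) := by
      have h5 : LinearMap.ker (N.domRestrict (LinearMap.ker N2)) =
          Submodule.comap (LinearMap.ker N2).subtype (LinearMap.ker N) := by
        ext x
        rfl
      rw [h5]
      exact (Submodule.comapSubtypeEquivOfLe hker).finrank_eq
    have h5 : LinearMap.range N2 ≤ LinearMap.range (N.domRestrict (LinearMap.ker N2)) := by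
      rintro _ ⟨x, rfl⟩
      refine ⟨⟨N x, ?_⟩, ?_⟩
      · rw [LinearMap.mem_ker, hN2a, hN3]
      · exact (hN2a x).symm
    have h6 := Submodule.finrank_mono h5
    omega
  have ht : finrank F (LinearMap.range N2) + 3 ≤ finrank F (LinearMap.ker N2) := by omega
  -- a singular vector outside the radical
  obtain ⟨W0, hW0⟩ := Submodule.exists_isCompl (LinearMap.range N2)
  have d4 := Submodule.finrank_add_eq_of_isCompl hW0
  have d5 := Submodule.finrank_sup_add_finrank_inf_eq W0 (LinearMap.ker N2)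
  have d6 : finrank F ↥(W0 ⊔ LinearMap.ker N2) ≤ finrank F V := Submodule.finrank_le _
  obtain ⟨z, hz, hz0, hQz⟩ := exists_sing_mem (Q := Q) (W0 ⊓ LinearMap.ker N2) (by omega)
  have hzK : N (N z) = 0 := by
    have := hz.2
    rw [SetLike.mem_coe, LinearMap.mem_ker, hN2a] at this
    exact this
  have hNz : N z = 0 := hno z hzK hQz
  have hzR : z ∉ LinearMap.range N2 := fun hc => hz0 (by
    have := (Submodule.disjoint_def.1 hW0.disjoint) z hc hz.1
    exact this)
  -- `ker N2` is not orthogonal to `z`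
  obtain ⟨f', hf'K, hf'⟩ : ∃ f', N (N f') = 0 ∧ polar Q z f' ≠ 0 := by
    by_contra hc
    push Not at hc
    apply hzR
    have hnd : (polarBilin Q).Nondegenerate :=
      ⟨fun x hx => hQ x hx, fun x hx => hQ x fun y => by rw [polar_comm]; exact hx y⟩
    have h7 := LinearMap.BilinForm.finrank_orthogonal hnd (LinearMap.ker N2)
    have h8 : LinearMap.range N2 ≤ LinearMap.BilinForm.orthogonal (polarBilin Q) (LinearMap.ker N2) := by
      rintro _ ⟨x, rfl⟩
      rw [LinearMap.BilinForm.mem_orthogonal_iff]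
      intro y hy
      rw [LinearMap.mem_ker, hN2a] at hy
      change polar Q y (N2 x) = 0
      rw [polar_comm, hN2a]
      exact hadj2 x y hy
    have h9 : LinearMap.range N2 = LinearMap.BilinForm.orthogonal (polarBilin Q) (LinearMap.ker N2) :=
      Submodule.eq_of_le_of_finrank_le h8 (by omega)
    rw [h9, LinearMap.BilinForm.mem_orthogonal_iff]
    intro y hy
    rw [LinearMap.mem_ker, hN2a] at hy
    change polar Q y z = 0
    rw [polar_comm]
    exact hc y hy
  obtain ⟨f, hfK, hf⟩ : ∃ f, N (N f) = 0 ∧ N f ≠ 0 := by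
    obtain ⟨x, hx⟩ : ∃ x, N x ≠ 0 := by
      by_contra h6
      push Not at h6
      exact hN0 (LinearMap.ext h6)
    by_cases h3 : N (N x) = 0
    · exact ⟨x, h3, hx⟩
    · exact ⟨N x, hN3 x, h3⟩
  obtain ⟨f1, h1K, h1N, h1p⟩ : ∃ f1, N (N f1) = 0 ∧ N f1 ≠ 0 ∧ polar Q z f1 ≠ 0 := by
    by_cases h3 : polar Q z f = 0
    · by_cases h4 : N f' = 0
      · refine ⟨f + f', ?_, ?_, ?_⟩
        · rw [map_add, map_add, hfK, hf'K, add_zero]
        · rw [map_add, h4, add_zero]
          exact hf
        · rw [polar_add_right, h3, zero_add]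
          exact hf'
      · exact ⟨f', hf'K, h4, hf'⟩
    · exact ⟨f, hfK, hf, h3⟩
  apply h1N
  have h10 : N (f1 + (-(Q f1 / polar Q z f1)) • z) = N f1 := by
    rw [map_add, map_smul, hNz, smul_zero, add_zero]
  rw [← h10]
  refine hno _ ?_ ?_
  · rw [h10, h1K]
  · rw [Q_add, QuadraticMap.map_smul, hQz, smul_zero, add_zero, polar_smul_right, smul_eq_mul,
      polar_comm Q f1 z]
    field_simp
    ring

/-! ### Existence of totally singular pairs `e`, `y e` -/

open Cfsg.Agent.ClassicalGeometry.OrthSemi (IsSS)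
open Cfsg.Agent.CpAut.Orth Cfsg.Agent.CpAut.OrthMain
open Cfsg.Agent.CpAut.Psl (fixf mem_fixf)
open Cfsg.Agent.CpAut (Descent.exists_scale Descent.hilbert90 Descent.exists_basis Descent.scal)

/-- The second vector can be scaled. -/
theorem TS.smul {x y : V} (h : TS Q x y) {c : F} (hc : c ≠ 0) : TS Q x (c • y) where
  left := h.left
  right := by rw [QuadraticMap.map_smul, h.right, smul_zero]
  pol := by rw [polar_smul_right, h.pol, smul_zero]
  ind a b hab := by
    rw [smul_smul] at hab
    obtain ⟨h1, h2⟩ := h.ind a (b * c) hab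
    exact ⟨h1, (mul_eq_zero.1 h2).resolve_right hc⟩

theorem TS.of_smul {x y : V} {c : F} (hc : c ≠ 0) (h : TS Q x (c • y)) : TS Q x y := by
  have := TS.smul h (inv_ne_zero hc)
  rwa [smul_smul, inv_mul_cancel₀ hc, one_smul] at this

/-- A unipotent isometry `n ≠ 1` of order `p`. -/
theorem exists_TS_unip [Finite F] {p : ℕ} [Fact p.Prime] [CharP F p] (h2 : (2 : F) ≠ 0)
    (hQ : Nondeg Q) (hd : 7 ≤ finrank F V) {n : V ≃ₗ[F] V} (hn : n ∈ O Q) (h1 : n ≠ 1)
    (hp : n ^ p = 1) : ∃ e : V, TS Q e (n e) := by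
  have hchar : CharP (Module.End F V) p := by
    have hV : Nontrivial V := by
      by_contra hV
      rw [not_nontrivial_iff_subsingleton] at hV
      have := finrank_zero_of_subsingleton (R := F) (M := V)
      omega
    exact charP_of_injective_algebraMap (algebraMap F (Module.End F V)).injective p
  have hnil : IsNilpotent ((n : V →ₗ[F] V) - 1 : Module.End F V) := by
    refine ⟨p, ?_⟩
    have hex : ExpChar (Module.End F V) p := ExpChar.prime Fact.out
    rw [sub_pow_expChar_of_commute p (Commute.one_right _), one_pow, sub_eq_zero]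
    ext v
    have h3 : ∀ k : ℕ, ((n : V →ₗ[F] V) ^ k : Module.End F V) v = (n ^ k) v := by
      intro k
      induction k generalizing v with
      | zero => rfl
      | succ k ih =>
        rw [pow_succ, pow_succ, Module.End.mul_apply, LinearEquiv.mul_apply, LinearEquiv.coe_coe, ih]
    rw [h3, hp]
    rfl
  obtain ⟨e, he, hne, hN⟩ := exists_sing_jordan h2 hQ hd hn h1 hnil
  have h3 : polar Q e (n e) = 0 := by
    -- `polar (N e) (N e) = 0`
    have h4 : polar Q (n e - e) (n e - e) = 0 := by
      rw [adj hn]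
      have h5 : n.symm (n e - e) = n e - e := by
        rw [LinearEquiv.symm_apply_eq]
        exact hN.symm
      rw [h5, sub_self, polar_zero_right]
    have h5 := sing_of_polar_self h2 h4
    rw [sub_eq_add_neg, Q_add, QuadraticMap.map_neg, polar_neg_right, mem_O.1 hn, he] at h5
    rw [polar_comm]
    simpa using h5
  refine ⟨e, he, by rw [mem_O.1 hn, he], h3, ?_⟩
  -- independence
  have he0 : e ≠ 0 := by
    rintro rfl
    exact hne (map_zero n)
  intro a b hab
  by_cases hb : b = 0
  · subst hb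
    rw [zero_smul, add_zero] at hab
    exact ⟨(smul_eq_zero.1 hab).resolve_right he0, rfl⟩
  · exfalso
    have h6 : n e = (-(a / b)) • e := by
      have h7 : b • n e = -(a • e) := by
        rw [eq_neg_iff_add_eq_zero, add_comm]
        exact hab
      have h8 : n e = b⁻¹ • (b • n e) := by rw [smul_smul, inv_mul_cancel₀ hb, one_smul]
      rw [h8, h7, smul_neg, smul_smul, neg_smul]
      congr 2
      field_simp
    set t := -(a / b) with ht
    -- `n e = t e`, `N (N e) = (t - 1)² e = 0`
    have h9 : n (n e - e) = t • (n e - e) := by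
      rw [h6]
      rw [map_sub, map_smul, h6]
      module
    rw [hN] at h9
    have h10 : (1 - t) • (n e - e) = 0 := by
      rw [sub_smul, one_smul, ← h9, sub_self]
    rcases smul_eq_zero.1 h10 with h | h
    · apply hne
      rw [h6, ← sub_eq_zero.1 h, one_smul]
    · exact hne (sub_eq_zero.1 h)

/-- Two vectors of a totally singular plane. -/
theorem TS.comb {x y : V} (h : TS Q x y) {a b : F} (hab : a ≠ b) :
    TS Q (x + a • y) (x + b • y) where
  left := by rw [Q_add, QuadraticMap.map_smul, polar_smul_right, h.left, h.right, h.pol]; simp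
  right := by rw [Q_add, QuadraticMap.map_smul, polar_smul_right, h.left, h.right, h.pol]; simp
  pol := by
    have hx : polar Q x x = 0 := by rw [polar_self', h.left, mul_zero]
    have hy : polar Q y y = 0 := by rw [polar_self', h.right, mul_zero]
    rw [polar_add_left, polar_add_right, polar_add_right, polar_smul_left, polar_smul_left,
      polar_smul_right, polar_smul_right, h.pol, h.pol', hx, hy]
    simp
  ind c d hcd := by
    have h1 : (c + d) • x + (c * a + d * b) • y = 0 := by
      rw [← hcd]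
      module
    obtain ⟨h2, h3⟩ := h.ind _ _ h1
    have hd : d * (b - a) = 0 := by linear_combination h3 - a * h2
    have hd0 : d = 0 := (mul_eq_zero.1 hd).resolve_right (sub_ne_zero.2 (Ne.symm hab))
    subst hd0
    exact ⟨by simpa using h2, rfl⟩

theorem pow_smul' {σ : F ≃+* F} {l : F} {M N : Equiv.Perm V} (hσ : σ = 1) (hM : IsSS Q σ l M) {c : F}
    (hN : ∀ v, N v = c • M v) (k : ℕ) (v : V) : (N ^ k) v = c ^ k • (M ^ k) v := by
  subst hσ
  induction k generalizing v with
  | zero => rw [pow_zero, pow_zero, pow_zero, one_smul]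
  | succ k ih =>
    rw [pow_succ, Equiv.Perm.mul_apply, ih, hN, pow_succ M, Equiv.Perm.mul_apply,
      (isSS_pow hM k).smul, one_pow, smul_smul, pow_succ c]
    rfl

/-- **Existence of the totally singular pair.** -/
theorem exists_TS [Finite F] {p : ℕ} [Fact p.Prime] [CharP F p] (hp2 : p ≠ 2) (hG : Good Q)
    (hd : 7 ≤ finrank F V) {σ : F ≃+* F} {l : F} {M : Equiv.Perm V} (hM : IsSS Q σ l M) {a : F}
    (ha : ∀ v, (M ^ p) v = a • v) (hns : ¬ ∃ a : F, ∀ v, M v = a • v) :
    ∃ e : V, TS Q e (M e) := by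
  classical
  have h2 : (2 : F) ≠ 0 := Cfsg.Agent.CpAut.PspRow.two_ne Fact.out hp2
  obtain ⟨v₀, hv₀⟩ := exists_ne hG
  have hv0 : v₀ ≠ 0 := by rintro rfl; exact hv₀ (QuadraticMap.map_zero Q)
  have ha0 : a ≠ 0 := by
    rintro rfl
    apply hv0
    apply (M ^ p).injective
    rw [ha, ha, zero_smul, zero_smul]
  have hpp : p.Prime := Fact.out
  have hfd : FiniteDimensional F V := Module.finite_of_finrank_pos (by omega)
  by_cases hσ : σ = 1
  · subst hσ
    obtain ⟨c, hc⟩ : ∃ c : F, c ^ p = a := by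
      obtain ⟨c, hc⟩ := (Finite.injective_iff_surjective.1 (frobenius_inj F p)) a
      exact ⟨c, hc⟩
    have hc0 : c ≠ 0 := by
      rintro rfl
      rw [zero_pow hpp.ne_zero] at hc
      exact ha0 hc.symm
    set N : Equiv.Perm V := Descent.scal V (Units.mk0 c⁻¹ (inv_ne_zero hc0)) * M with hN
    have hNv : ∀ v, N v = c⁻¹ • M v := fun v => rfl
    have hNs : IsSS Q (1 : F ≃+* F) (c⁻¹ * c⁻¹ * l) N := by
      refine ⟨mul_ne_zero (mul_ne_zero (inv_ne_zero hc0) (inv_ne_zero hc0)) hM.ne, fun u v => ?_,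
        fun x v => ?_, fun v => ?_⟩
      · rw [hNv, hNv, hNv, hM.add, smul_add]
      · rw [hNv, hNv, hM.smul, smul_comm]
      · rw [hNv, QuadraticMap.map_smul, hM.form, smul_eq_mul, mul_assoc (c⁻¹ * c⁻¹)]
    have hNp : N ^ p = 1 := by
      ext1 v
      rw [pow_smul' rfl hM hNv, ha, smul_smul, inv_pow, hc, inv_mul_cancel₀ ha0, one_smul]
      rfl
    have hl1 : c⁻¹ * c⁻¹ * l = 1 := by
      have h3 := isSS_pow hNs p
      rw [hNp] at h3
      have h4 := (isSS_unique (exists_ne hG) h3 isSS_one).2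
      rw [Finset.prod_congr rfl (fun i _ => by rw [one_pow]; rfl :
        ∀ i ∈ Finset.range p, ((1 : F ≃+* F) ^ i) (c⁻¹ * c⁻¹ * l) = c⁻¹ * c⁻¹ * l),
        Finset.prod_const, Finset.card_range] at h4
      have h5 : (c⁻¹ * c⁻¹ * l) ^ p = 1 ^ p := by rw [h4, one_pow]
      exact frobenius_inj F p h5
    rw [hl1] at hNs
    let n : V ≃ₗ[F] V :=
      { N with
        map_add' := hNs.add
        map_smul' := hNs.smul }
    have hn : ∀ v, n v = N v := fun v => rfl
    have hnO : n ∈ O Q := by
      intro v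
      rw [hn, hNs.form, one_mul]
      rfl
    have hnp : n ^ p = 1 := by
      have h1 : ∀ (k : ℕ) (v : V), (n ^ k) v = (N ^ k) v := by
        intro k
        induction k with
        | zero => exact fun v => rfl
        | succ k ih =>
          intro v
          rw [pow_succ, pow_succ, LinearEquiv.mul_apply, Equiv.Perm.mul_apply, ih, hn]
      apply LinearEquiv.ext
      intro v
      rw [h1, hNp]
      rfl
    have hn1 : n ≠ 1 := by
      intro h1
      apply hns
      refine ⟨c, fun v => ?_⟩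
      have h3 : c⁻¹ • M v = v := by
        rw [← hNv, ← hn, h1]
        rfl
      rw [← h3, smul_smul, mul_inv_cancel₀ hc0, one_smul, h3]
    obtain ⟨e, he⟩ := exists_TS_unip h2 hG.nondeg hd hnO hn1 hnp
    rw [hn, hNv] at he
    exact ⟨e, TS.of_smul (inv_ne_zero hc0) he⟩
  · have hsc : IsSS Q (1 : F ≃+* F) (a * a) (M ^ p) := by
      refine ⟨mul_ne_zero ha0 ha0, fun u v => ?_, fun t v => ?_, fun v => ?_⟩
      · rw [ha, ha, ha, smul_add]
      · rw [ha, ha, smul_comm]
        rfl
      · rw [ha, QuadraticMap.map_smul]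
        rfl
    have hσp : σ ^ p = 1 := (isSS_unique (exists_ne hG) (isSS_pow hM p) hsc).1
    have hord : orderOf σ = p := orderOf_eq_prime hσp hσ
    obtain ⟨c, hc⟩ := Descent.exists_scale (toSemi hM) hord hpp.pos ha0 ha ⟨v₀, hv0⟩
    set N : Equiv.Perm V := Descent.scal V c * M with hN
    have hNv : ∀ v, N v = (c : F) • M v := fun v => rfl
    have hNs : IsSS Q σ (c * c * l) N := by
      refine ⟨mul_ne_zero (mul_ne_zero c.ne_zero c.ne_zero) hM.ne, fun u v => ?_, fun x v => ?_,
        fun v => ?_⟩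
      · rw [hNv, hNv, hNv, hM.add, smul_add]
      · rw [hNv, hNv, hM.smul, smul_comm]
      · rw [hNv, QuadraticMap.map_smul, hM.form, smul_eq_mul, mul_assoc ((c : F) * c)]
    have h7 : ∏ i ∈ Finset.range p, (σ ^ i) ((c : F) * c * l) = 1 := by
      have h8 := isSS_pow hNs p
      rw [hc] at h8
      exact (isSS_unique (exists_ne hG) h8 isSS_one).2
    obtain ⟨e, he, hle⟩ := Descent.hilbert90 hord hpp.pos h7
    obtain ⟨b, hb⟩ := Descent.exists_basis (toSemi hNs) hord hpp.pos hc
      (ι := Fin (Module.finrank F V)) (by rw [Fintype.card_fin])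
    obtain ⟨Q₀, hQ₀⟩ := exists_form hNs hb he hle
    have hfin : Finite ↥(fixf σ) := inferInstance
    have hnd : Nondeg Q₀ := nondeg_zero hQ₀ hG.nondeg
    have hrk : Module.finrank (fixf σ) (Fin (Module.finrank F V) → fixf σ) =
        Module.finrank F V := by
      rw [Module.finrank_fintype_fun_eq_card, Fintype.card_fin]
    have hG₀ : Good Q₀ := good_of_finite hnd (by omega)
    obtain ⟨x, x', hx⟩ := hG₀.exists_hyp
    obtain ⟨y, y', hfr⟩ := exists_Fr hG₀ hx
    have hTS : TS Q (J σ b x) (J σ b y) := by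
      refine ⟨?_, ?_, ?_, fun s t hst => ?_⟩
      · rw [hQ₀, hfr.hx.left]; simp
      · rw [hQ₀, hfr.hy.left]; simp
      · rw [polar_J hQ₀, hfr.xy]; simp
      · have h3 := congrArg (polar Q (J σ b x')) hst
        have h4 := congrArg (polar Q (J σ b y')) hst
        rw [polar_add_right, polar_smul_right, polar_smul_right, polar_J hQ₀, polar_J hQ₀,
          hfr.hx.pair', hfr.x'y, polar_zero_right] at h3
        rw [polar_add_right, polar_smul_right, polar_smul_right, polar_J hQ₀, polar_J hQ₀,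
          hfr.hy.pair', polar_comm Q₀ y' x, hfr.xy', polar_zero_right] at h4
        simp only [smul_eq_mul] at h3 h4
        push_cast at h3 h4
        simp only [mul_one, mul_zero, add_zero, zero_add] at h3 h4
        exact ⟨(mul_eq_zero.1 h3).resolve_right he, (mul_eq_zero.1 h4).resolve_right he⟩
    obtain ⟨t, ht⟩ : ∃ t : F, σ t ≠ t := by
      by_contra h3
      push Not at h3
      exact hσ (RingEquiv.ext h3)
    have h5 := TS.comb hTS (Ne.symm ht)
    have h6 : N (J σ b x + t • J σ b y) = J σ b x + σ t • J σ b y := by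
      rw [hNs.add, hNs.smul, M_J (toSemi hNs) hb, M_J (toSemi hNs) hb]
    rw [← h6, hNv] at h5
    exact ⟨_, TS.of_smul c.ne_zero h5⟩

/-! ### Pairs -/

open Cfsg.Agent.H957.T5V (toA toA_apply IsScal)

/-- iterates of a scalar map -/
theorem pow_scal {x : Equiv.Perm V} {a : F} (h : ∀ v, x v = a • v) (k : ℕ) (v : V) :
    (x ^ k) v = a ^ k • v := by
  induction k generalizing v with
  | zero => rw [pow_zero, pow_zero, one_smul]; rfl
  | succ k ih => rw [pow_succ, Equiv.Perm.mul_apply, ih, h, smul_smul, pow_succ]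

/-- an eigenvalue in the prime field -/
theorem pow_eigen {ρ : F ≃+* F} {x : Equiv.Perm V} {m : F} (hx : IsSS Q ρ m x) {e : V} {a : ℕ}
    (h : x e = (a : F) • e) (k : ℕ) : (x ^ k) e = (a : F) ^ k • e := by
  induction k with
  | zero => rw [pow_zero, pow_zero, one_smul]; rfl
  | succ k ih =>
    rw [pow_succ, Equiv.Perm.mul_apply, h, (isSS_pow hx k).smul, ih, map_natCast, smul_smul,
      pow_succ, mul_comm]

theorem natCast_pow_pow {p : ℕ} [Fact p.Prime] [CharP F p] (a k : ℕ) :
    (a : F) ^ p ^ k = (a : F) := by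
  induction k with
  | zero => rw [pow_zero, pow_one]
  | succ k ih =>
    rw [pow_succ, pow_mul, ih]
    have := map_natCast (frobenius F p) a
    rwa [frobenius_def] at this

theorem isSS_toA {g : V ≃ₗ[F] V} (hg : g ∈ O Q) : IsSS Q (1 : F ≃+* F) 1 (toA g) :=
  ⟨one_ne_zero, fun u v => by rw [toA_apply, map_add]; rfl,
    fun a v => by rw [toA_apply, map_smul]; rfl,
    fun v => by rw [toA_apply, mem_O.1 hg, one_mul]; rfl⟩

theorem isSS_conj {g : V ≃ₗ[F] V} (hg : g ∈ O Q) {τ : F ≃+* F} {k : F} {z : Equiv.Perm V}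
    (hz : IsSS Q τ k z) : IsSS Q τ k (toA g * z * (toA g)⁻¹) := by
  have h1 : ∀ v, (toA g * z * (toA g)⁻¹) v = g (z (g.symm v)) := fun v => rfl
  refine ⟨hz.ne, fun u v => ?_, fun a v => ?_, fun v => ?_⟩
  · rw [h1, h1, h1, map_add, hz.add, map_add]
  · rw [h1, h1, map_smul, hz.smul, map_smul]
  · rw [h1, mem_O.1 hg, hz.form]
    have := mem_O.1 hg (g.symm v)
    rw [LinearEquiv.apply_symm_apply] at this
    rw [this]

/-- A semisimilitude with the eigenvalue `a` in the prime field and scalar `p ^ m`-th power. -/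
theorem mult_of_scal {p : ℕ} [Fact p.Prime] [CharP F p] (hG : Good Q) {ρ : F ≃+* F} {c : F}
    {x : Equiv.Perm V} (hx : IsSS Q ρ c x) {e : V} (he : e ≠ 0) {a : ℕ} (ha : (a : F) ≠ 0)
    (h : x e = (a : F) • e) {m : ℕ} (hs : IsScal F (x ^ p ^ m)) {K : ℕ} (hK : m ≤ K) :
    ∏ i ∈ Finset.range (p ^ K), (ρ ^ i) c = (a : F) * a := by
  obtain ⟨lam, hlam⟩ := hs
  have h1 : lam = (a : F) := by
    have h2 := pow_eigen hx h (p ^ m)
    rw [hlam, natCast_pow_pow] at h2
    have h3 : (lam - (a : F)) • e = 0 := by rw [sub_smul, h2, sub_self]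
    exact sub_eq_zero.1 ((smul_eq_zero.1 h3).resolve_right he)
  have h2 : ∀ v, (x ^ p ^ K) v = (a : F) • v := by
    intro v
    obtain ⟨j, rfl⟩ := Nat.exists_eq_add_of_le hK
    rw [pow_add p, pow_mul x, pow_scal hlam, h1, natCast_pow_pow]
  have h3 : IsSS Q (1 : F ≃+* F) ((a : F) * a) (x ^ p ^ K) := by
    refine ⟨mul_ne_zero ha ha, fun u v => ?_, fun t v => ?_, fun v => ?_⟩
    · rw [h2, h2, h2, smul_add]
    · rw [h2, h2, smul_comm]
      rfl
    · rw [h2, QuadraticMap.map_smul]
      rfl
  exact (isSS_unique (exists_ne hG) (isSS_pow hx _) h3).2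

/-- **The pairs.** -/
theorem core [Finite F] {p : ℕ} [Fact p.Prime] [CharP F p] (hp5 : 5 ≤ p) (hG : Good Q)
    (hd : 7 ≤ finrank F V) {σ τ : F ≃+* F} {l k : F} {y z : Equiv.Perm V} (hy : IsSS Q σ l y)
    (hz : IsSS Q τ k z) (hyT : ∃ e, TS Q e (y e)) (hzT : ∃ e, TS Q e (z e)) :
    ∃ g ∈ E Q, ∀ m, ¬ IsScal F ((y * (toA g * z * (toA g)⁻¹)) ^ p ^ m) := by
  obtain ⟨e, he⟩ := hyT
  obtain ⟨u, hu⟩ := hzT
  have h2 : (2 : F) ≠ 0 := Cfsg.Agent.CpAut.PspRow.two_ne (p := p) Fact.out (by omega)
  have h3 : (3 : F) ≠ 0 := by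
    intro h3
    have h4 : ((3 : ℕ) : F) = 0 := by exact_mod_cast h3
    rw [CharP.cast_eq_zero_iff F p] at h4
    have := Nat.le_of_dvd (by norm_num) h4
    omega
  by_contra hcon
  push Not at hcon
  have key : ∀ a : ℕ, (a : F) ≠ 0 → ∃ x : Equiv.Perm V, IsSS Q (σ * τ) (l * σ k) x ∧
      (∃ m, IsScal F (x ^ p ^ m)) ∧ x (y e) = (a : F) • y e := by
    intro a ha
    obtain ⟨g, hg, hg1, hg2⟩ := trans_TS hG hd hu (TS.smul he.symm ha)
    refine ⟨y * (toA g * z * (toA g)⁻¹), hy.mul (isSS_conj (E_le_O hg) hz), hcon g hg, ?_⟩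
    change y (g (z (g.symm (y e)))) = _
    have h4 : g.symm (y e) = u := by rw [LinearEquiv.symm_apply_eq, hg1]
    rw [h4, hg2, hy.smul, map_natCast]
  obtain ⟨x1, hx1, ⟨m1, hm1⟩, he1⟩ := key 1 (by simp)
  obtain ⟨x2, hx2, ⟨m2, hm2⟩, he2⟩ := key 2 (by exact_mod_cast h2)
  have r1 := mult_of_scal hG hx1 he.right_ne (by simp) he1 hm1 (le_max_left m1 m2)
  have r2 := mult_of_scal hG hx2 he.right_ne (by exact_mod_cast h2) he2 hm2 (le_max_right m1 m2)
  rw [r1] at r2
  apply h3
  push_cast at r2
  linear_combination -r2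

end Cfsg.Agent.H194.MOwn.Om
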