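import Cfsg.Agent.CpAut.OrthRow
import Cfsg.Agent.H957.T5Tr
import Cfsg.Agent.H513.MeetPSp
import Cfsg.Agent.H106.MBase

/-!
# Pairs in own characteristic, symplectic groups

* `two_values` : for a unipotent symplectic map `n ≠ 1` of order `p` the values
  `B(f, n f) = s ≠ 0` and `B(f', n^i f') = 2 s` (`i = 1` or `2`) occur;
* `two_values_field` : the same for a field automorphism, `i = 1`;
* `core` : the pairs; `mrow_psp` : the row `PSp_2m(q)`, `p ≥ 5` dividing `q`.
-/

set_option autoImplicit false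

namespace Cfsg.Agent.H194.MOwn.Spo

open Module Cfsg.Agent.ClassicalGeometry.SympBasic Cfsg.Agent.ClassicalGeometry.SympAutSemi
open Cfsg.Agent.ClassicalGeometry.SympGamma
open Cfsg.Agent.CpAut.Psp (toSemi isSemi_one)
open Cfsg.Agent.CpAut.PspRow (two_ne)
open Cfsg.Agent.H957.T5V (IsScal)

abbrev VV (m : ℕ) (F : Type*) : Type _ := Fin m ⊕ Fin m → F

variable {F : Type*} [Field F] {m : ℕ}

theorem isSemi_pow {g : Equiv.Perm (VV m F)} {φ : F ≃+* F} {l : F} (hg : IsSemi g φ l) (k : ℕ) :
    IsSemi (g ^ k) (φ ^ k) (∏ i ∈ Finset.range k, (φ ^ i) l) :=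
  Cfsg.Agent.CpAut.Psp.IsSemi.pow hg k

/-- `B(f, n f)` as a quadratic form. -/
theorem q_add {n : Equiv.Perm (VV m F)} {l : F} (hn : IsSemi n (1 : F ≃+* F) l) (e f : VV m F) (a b : F) :
    sympForm m F (a • e + b • f) (n (a • e + b • f)) =
      a ^ 2 * sympForm m F e (n e) + b ^ 2 * sympForm m F f (n f) +
        a * b * (sympForm m F e (n f) + sympForm m F f (n e)) := by
  have h1 : n (a • e + b • f) = a • n e + b • n f := by
    rw [hn.1, hn.2.1, hn.2.1]
    rfl
  rw [h1, sympForm_add_left, sympForm_add_right, sympForm_add_right, sympForm_smul_left,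
    sympForm_smul_left, sympForm_smul_left, sympForm_smul_left, sympForm_smul_right,
    sympForm_smul_right, sympForm_smul_right, sympForm_smul_right]
  ring

/-- The polar form. -/
theorem polar_eq {n : Equiv.Perm (VV m F)} (hn : IsSemi n (1 : F ≃+* F) 1) (e f : VV m F) :
    sympForm m F e (n f) + sympForm m F f (n e) = sympForm m F (n e) (n (n f) - f) := by
  have h1 := hn.2.2 e (n f)
  rw [one_mul] at h1
  change _ = sympForm m F e (n f) at h1
  rw [sympForm_sub_right, h1, sympForm_swap (n e) f]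
  ring

/-- binary forms over finite fields of odd characteristic are universal -/
theorem exists_binary [Finite F] (h2 : (2 : F) ≠ 0) {a b : F} (ha : a ≠ 0) (hb : b ≠ 0) (c : F) :
    ∃ x y : F, a * x ^ 2 + b * y ^ 2 = c := by
  classical
  have := Fintype.ofFinite F
  have hodd : Fintype.card F % 2 = 1 := by
    have : ringChar F ≠ 2 := by
      intro h
      apply h2
      have := ringChar.Nat.cast_ringChar (R := F)
      rw [h] at this
      exact_mod_cast this
    exact FiniteField.odd_card_of_char_ne_two this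
  obtain ⟨x, y, hxy⟩ := FiniteField.exists_root_sum_quadratic
    (f := Polynomial.C a * Polynomial.X ^ 2 - Polynomial.C c)
    (g := Polynomial.C b * Polynomial.X ^ 2) (by
      rw [Polynomial.degree_sub_C] <;> rw [Polynomial.degree_C_mul_X_pow _ ha] <;> norm_num) (by
      rw [Polynomial.degree_C_mul_X_pow _ hb]; norm_num) hodd
  refine ⟨x, y, ?_⟩
  simp only [Polynomial.eval_sub, Polynomial.eval_mul, Polynomial.eval_C, Polynomial.eval_pow,
    Polynomial.eval_X] at hxy
  linear_combination hxy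

omit [Field F] in
/-- `n ^ 2 f = f` implies `n f = f` for `n` of odd order `p`. -/
theorem fix_of_sq {n : Equiv.Perm (VV m F)} {p : ℕ} (hp : Odd p) (hnp : n ^ p = 1) {f : VV m F}
    (h : n (n f) = f) : n f = f := by
  obtain ⟨k, rfl⟩ := hp
  have h1 : ∀ j : ℕ, (n ^ (2 * j)) f = f := by
    intro j
    induction j with
    | zero => rfl
    | succ j ih =>
      rw [show 2 * (j + 1) = 2 * j + 1 + 1 by ring, pow_succ, pow_succ, Equiv.Perm.mul_apply,
        Equiv.Perm.mul_apply, h, ih]
  have h2 : (n ^ (2 * k + 1)) f = f := by rw [hnp]; rfl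
  rw [pow_succ', Equiv.Perm.mul_apply, h1] at h2
  exact h2

theorem map_zero' {n : Equiv.Perm (VV m F)} {σ : F ≃+* F} {l : F} (hn : IsSemi n σ l) : n 0 = 0 := by
  have := hn.1 0 0
  rw [add_zero] at this
  exact left_eq_add.1 this

/-- **Two values, linear case.** -/
theorem two_values [Finite F] {p : ℕ} [Fact p.Prime] [CharP F p] (hp2 : p ≠ 2)
    {n : Equiv.Perm (VV m F)} (hn : IsSemi n (1 : F ≃+* F) 1) (hnp : n ^ p = 1) (h1 : n ≠ 1) :
    ∃ s : F, s ≠ 0 ∧ (∃ f, sympForm m F f (n f) = s) ∧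
      ((∃ f, sympForm m F f (n f) = 2 * s) ∨ ∃ f, sympForm m F f (n (n f)) = 2 * s) := by
  have h2 : (2 : F) ≠ 0 := two_ne (p := p) Fact.out hp2
  have hodd : Odd p := (Fact.out : p.Prime).odd_of_ne_two hp2
  -- a vector with non-zero value
  obtain ⟨e, he⟩ : ∃ e, sympForm m F e (n e) ≠ 0 := by
    by_contra hcon
    push Not at hcon
    apply h1
    ext1 f
    change n f = f
    refine fix_of_sq hodd hnp ?_
    have h3 : ∀ e, sympForm m F (n e) (n (n f) - f) = 0 := by
      intro e
      rw [← polar_eq hn]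
      have h4 := q_add hn e f 1 1
      rw [hcon, hcon, hcon] at h4
      linear_combination -h4
    have h5 : n (n f) - f = 0 := by
      refine eq_zero_of_forall_sympForm_left fun e => ?_
      have := h3 (n.symm e)
      rwa [Equiv.apply_symm_apply] at this
    exact sub_eq_zero.1 h5
  refine ⟨_, he, ⟨e, rfl⟩, ?_⟩
  set s := sympForm m F e (n e) with hs
  set P : VV m F → F := fun f => sympForm m F e (n f) + sympForm m F f (n e) with hP
  have hPe : P e = 2 * s := by
    rw [hP]
    change sympForm m F e (n e) + sympForm m F e (n e) = _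
    rw [← hs]
    ring
  have hPadd : ∀ (f g : VV m F) (t : F), P (f + t • g) = P f + t * P g := by
    intro f g t
    have h4 : n (f + t • g) = n f + t • n g := by
      rw [hn.1, hn.2.1]
      rfl
    change sympForm m F e (n (f + t • g)) + sympForm m F (f + t • g) (n e) =
      (sympForm m F e (n f) + sympForm m F f (n e)) + t * (sympForm m F e (n g) + sympForm m F g (n e))
    rw [h4, sympForm_add_right, sympForm_smul_right, sympForm_add_left, sympForm_smul_left]
    ring
  by_cases hex : ∃ f, P f = 0 ∧ sympForm m F f (n f) ≠ 0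
  · left
    obtain ⟨f, hf, hf'⟩ := hex
    obtain ⟨x, y, hxy⟩ := exists_binary h2 he hf' (2 * s)
    refine ⟨x • e + y • f, ?_⟩
    rw [q_add hn, show sympForm m F e (n f) + sympForm m F f (n e) = P f from rfl, hf, ← hxy]
    ring
  · right
    push Not at hex
    -- `n` is the identity on the hyperplane `P = 0`
    have hfix : ∀ f, P f = 0 → n f = f := by
      intro f hf
      refine fix_of_sq hodd hnp ?_
      have h3 : ∀ g, P g = 0 → sympForm m F g (n f) + sympForm m F f (n g) = 0 := by
        intro g hg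
        have h4 := q_add hn g f 1 1
        rw [one_smul, one_smul] at h4
        have h5 : P (g + f) = 0 := by
          have := hPadd g f 1
          rw [one_smul, hg, hf] at this
          rw [this]
          ring
        rw [hex _ h5, hex _ hg, hex _ hf] at h4
        linear_combination -h4
      have h6 : ∀ g, sympForm m F g (n f) + sympForm m F f (n g) = 0 := by
        intro g
        set t := P g / (2 * s) with ht
        have h7 : P (g + (-t) • e) = 0 := by
          rw [hPadd, hPe, ht]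
          field_simp
          ring
        have h8 := h3 _ h7
        have h9 : n (g + (-t) • e) = n g + (-t) • n e := by
          rw [hn.1, hn.2.1]
          rfl
        rw [h9, sympForm_add_left, sympForm_smul_left, sympForm_add_right, sympForm_smul_right] at h8
        have h10 : sympForm m F e (n f) + sympForm m F f (n e) = 0 := hf
        linear_combination h8 + t * h10
      have h11 : n (n f) - f = 0 := by
        refine eq_zero_of_forall_sympForm_left fun g => ?_
        have := h6 (n.symm g)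
        rw [polar_eq hn, Equiv.apply_symm_apply] at this
        exact this
      exact sub_eq_zero.1 h11
    -- `v = n e - e` is fixed
    set v := n e - e with hv
    set t := P v / (2 * s) with ht
    have h7 : P (v + (-t) • e) = 0 := by
      rw [hPadd, hPe, ht]
      field_simp
      ring
    have h8 := hfix _ h7
    have h9 : n (v + (-t) • e) = n v + (-t) • n e := by
      rw [hn.1, hn.2.1]
      rfl
    rw [h9] at h8
    have h10 : n v = (1 + t) • v := by
      have h11 : n v = v + (-t) • e - (-t) • n e := by rw [← h8]; abel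
      rw [h11, hv]
      module
    have hv0 : v ≠ 0 := by
      intro h0
      apply he
      rw [hs, show n e = e by rw [hv, sub_eq_zero] at h0; exact h0, sympForm_self]
    have h12 : ∀ k : ℕ, (n ^ k) v = (1 + t) ^ k • v := by
      intro k
      induction k with
      | zero => rw [pow_zero, pow_zero, one_smul]; rfl
      | succ k ih =>
        rw [pow_succ', Equiv.Perm.mul_apply, ih, hn.2.1]
        change (1 + t) ^ k • n v = _
        rw [h10, smul_smul, pow_succ]
    have h13 : (1 + t) ^ p = 1 := by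
      have h14 := h12 p
      rw [hnp] at h14
      change v = _ at h14
      have h15 : ((1 + t) ^ p - 1) • v = 0 := by rw [sub_smul, one_smul, ← h14, sub_self]
      exact sub_eq_zero.1 ((smul_eq_zero.1 h15).resolve_right hv0)
    have h16 : 1 + t = 1 := by
      refine frobenius_inj F p ?_
      rw [frobenius_def, frobenius_def, one_pow]
      exact h13
    rw [h16, one_smul] at h10
    refine ⟨e, ?_⟩
    have h17 : n e = e + v := by rw [hv]; abel
    have h18 : n (n e) = e + v + v := by rw [h17, hn.1, h10, h17]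
    rw [h18, sympForm_add_right, sympForm_add_right, sympForm_self, hs, h17, sympForm_add_right,
      sympForm_self]
    ring

open Cfsg.Agent.CpAut (Descent.exists_scale Descent.hilbert90 Descent.exists_basis Descent.scal)

/-- The normalised form of a non-scalar semisimilitude with scalar `p`-th power, and its values. -/
theorem values [Finite F] (hm : 1 ≤ m) {p : ℕ} [Fact p.Prime] [CharP F p] (hp2 : p ≠ 2)
    {y : Equiv.Perm (VV m F)} {σ : F ≃+* F} {l : F} (hl : l ≠ 0) (hy : IsSemi y σ l) {a : F}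
    (ha : ∀ v, (y ^ p) v = a • v) (hns : ¬ IsScal F y) :
    ∃ (n : Equiv.Perm (VV m F)) (c l' : F), c ≠ 0 ∧ (∀ v, y v = c • n v) ∧ l' ≠ 0 ∧ IsSemi n σ l' ∧
      ∃ s : F, s ≠ 0 ∧ (∃ f, sympForm m F f (n f) = s) ∧
        ((∃ f, sympForm m F f (n f) = 2 * s) ∨
          (σ = 1 ∧ l' = 1 ∧ ∃ f, sympForm m F f (n (n f)) = 2 * s)) := by
  classical
  have h2 : (2 : F) ≠ 0 := two_ne (p := p) Fact.out hp2
  have hpp : p.Prime := Fact.out
  obtain ⟨v₀, hv0⟩ : ∃ v₀ : VV m F, v₀ ≠ 0 :=
    ⟨Pi.single (Sum.inl ⟨0, hm⟩) 1, fun h => by simpa using congrFun h (Sum.inl ⟨0, hm⟩)⟩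
  have ha0 : a ≠ 0 := by
    rintro rfl
    apply hv0
    apply (y ^ p).injective
    rw [ha, ha, zero_smul, zero_smul]
  have hsc : ∀ (c : Fˣ), IsSemi (Descent.scal (VV m F) c * y) σ ((c : F) * c * l) := by
    intro c
    have hNv : ∀ v, (Descent.scal (VV m F) c * y) v = (c : F) • y v := fun v => rfl
    refine ⟨fun u v => ?_, fun x v => ?_, fun u v => ?_⟩
    · rw [hNv, hNv, hNv, hy.1, smul_add]
    · rw [hNv, hNv, hy.2.1, smul_comm]
    · rw [hNv, hNv, sympForm_smul_left, sympForm_smul_right, hy.2.2]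
      ring
  by_cases hσ : σ = 1
  · subst hσ
    obtain ⟨c, hc⟩ : ∃ c : F, c ^ p = a := by
      obtain ⟨c, hc⟩ := (Finite.injective_iff_surjective.1 (frobenius_inj F p)) a
      exact ⟨c, hc⟩
    have hc0 : c ≠ 0 := by
      rintro rfl
      rw [zero_pow hpp.ne_zero] at hc
      exact ha0 hc.symm
    set N : Equiv.Perm (VV m F) :=
      Descent.scal (VV m F) (Units.mk0 c⁻¹ (inv_ne_zero hc0)) * y with hN
    have hNv : ∀ v, N v = c⁻¹ • y v := fun v => rfl
    have hNs : IsSemi N (1 : F ≃+* F) (c⁻¹ * c⁻¹ * l) := hsc _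
    have hNk : ∀ (k : ℕ) (v : VV m F), (N ^ k) v = c⁻¹ ^ k • (y ^ k) v := by
      intro k
      induction k with
      | zero => intro v; rw [pow_zero, pow_zero, pow_zero, one_smul]
      | succ k ih =>
        intro v
        rw [pow_succ, Equiv.Perm.mul_apply, ih, hNv, pow_succ y, Equiv.Perm.mul_apply,
          (isSemi_pow hy k).2.1, one_pow, smul_smul, pow_succ c⁻¹]
        rfl
    have hNp : N ^ p = 1 := by
      ext1 v
      rw [hNk, ha, smul_smul, inv_pow, hc, inv_mul_cancel₀ ha0, one_smul]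
      rfl
    have hl1 : c⁻¹ * c⁻¹ * l = 1 := by
      have h3 := isSemi_pow hNs p
      rw [hNp] at h3
      have h4 := (IsSemi.unique hm h3 isSemi_one).2
      rw [Finset.prod_congr rfl (fun i _ => by rw [one_pow]; rfl :
        ∀ i ∈ Finset.range p, ((1 : F ≃+* F) ^ i) (c⁻¹ * c⁻¹ * l) = c⁻¹ * c⁻¹ * l),
        Finset.prod_const, Finset.card_range] at h4
      have h5 : (c⁻¹ * c⁻¹ * l) ^ p = 1 ^ p := by rw [h4, one_pow]
      exact frobenius_inj F p h5
    rw [hl1] at hNs
    have hn1 : N ≠ 1 := by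
      intro h1
      apply hns
      refine ⟨c, fun v => ?_⟩
      have h3 : c⁻¹ • y v = v := by
        rw [← hNv, h1]
        rfl
      rw [← h3, smul_smul, mul_inv_cancel₀ hc0, one_smul, h3]
    obtain ⟨s, hs, h3, h4⟩ := two_values hp2 hNs hNp hn1
    refine ⟨N, c, 1, hc0, fun v => ?_, one_ne_zero, hNs, s, hs, h3, ?_⟩
    · rw [hNv, smul_smul, mul_inv_cancel₀ hc0, one_smul]
    · rcases h4 with h4 | h4
      · exact Or.inl h4
      · exact Or.inr ⟨rfl, rfl, h4⟩
  · have hap : IsSemi (y ^ p) (1 : F ≃+* F) (a * a) := by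
      refine ⟨fun u v => ?_, fun t v => ?_, fun u v => ?_⟩
      · rw [ha, ha, ha, smul_add]
      · rw [ha, ha, smul_comm]
        rfl
      · rw [ha, ha, sympForm_smul_left, sympForm_smul_right]
        change _ = a * a * sympForm m F u v
        ring
    have hσp : σ ^ p = 1 := (IsSemi.unique hm (isSemi_pow hy p) hap).1
    have hord : orderOf σ = p := orderOf_eq_prime hσp hσ
    obtain ⟨c, hc⟩ := Descent.exists_scale (toSemi hy) hord hpp.pos ha0 ha ⟨v₀, hv0⟩
    set N : Equiv.Perm (VV m F) := Descent.scal (VV m F) c * y with hN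
    have hNv : ∀ v, N v = (c : F) • y v := fun v => rfl
    have hNs : IsSemi N σ (c * c * l) := hsc c
    obtain ⟨b, hb⟩ := Descent.exists_basis (toSemi hNs) hord hpp.pos hc
      (ι := Fin m ⊕ Fin m) (by rw [Module.finrank_fintype_fun_eq_card])
    -- two basis vectors with non-zero product
    obtain ⟨i, j, hij⟩ : ∃ i j, sympForm m F (b i) (b j) ≠ 0 := by
      by_contra hcon
      push Not at hcon
      apply hv0
      have h3 : ∀ i v, sympForm m F (b i) v = 0 := by
        intro i v
        rw [← b.sum_repr v, ← sympBilin_apply, map_sum]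
        refine Finset.sum_eq_zero fun j _ => ?_
        rw [map_smul, sympBilin_apply, hcon, smul_zero]
      refine eq_zero_of_forall_sympForm_right fun v => ?_
      rw [sympForm_swap, ← b.sum_repr v₀, ← sympBilin_apply, map_sum, neg_eq_zero]
      refine Finset.sum_eq_zero fun j _ => ?_
      rw [map_smul, sympBilin_apply, sympForm_swap, h3, neg_zero, smul_zero]
    obtain ⟨t, ht⟩ : ∃ t : F, σ t ≠ t := by
      by_contra h3
      push Not at h3
      exact hσ (RingEquiv.ext h3)
    have key : ∀ x : F, sympForm m F (b i + x • b j) (N (b i + x • b j)) =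
        (σ x - x) * sympForm m F (b i) (b j) := by
      intro x
      rw [hNs.1, hNs.2.1, hb, hb, sympForm_add_left, sympForm_add_right, sympForm_add_right,
        sympForm_smul_left, sympForm_smul_left, sympForm_smul_right, sympForm_smul_right,
        sympForm_self, sympForm_self, sympForm_swap (b j) (b i)]
      ring
    refine ⟨N, (c : F)⁻¹, c * c * l, inv_ne_zero c.ne_zero, fun v => ?_,
      mul_ne_zero (mul_ne_zero c.ne_zero c.ne_zero) hl, hNs, _,
      mul_ne_zero (sub_ne_zero.2 ht) hij, ⟨_, key t⟩, Or.inl ⟨_, (key (2 * t)).trans ?_⟩⟩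
    · rw [hNv, smul_smul, inv_mul_cancel₀ c.ne_zero, one_smul]
    · rw [map_mul, map_ofNat]
      ring

/-- iterates on an eigenvector -/
theorem pow_eigen {ρ : F ≃+* F} {x : Equiv.Perm (VV m F)} {l : F} (hx : IsSemi x ρ l) {e : VV m F}
    {b : F} (h : x e = b • e) (k : ℕ) :
    (x ^ k) e = (∏ i ∈ Finset.range k, (ρ ^ i) b) • e := by
  induction k with
  | zero => simp
  | succ k ih =>
    rw [pow_succ, Equiv.Perm.mul_apply, h, (isSemi_pow hx k).2.1, ih, smul_smul,
      Finset.prod_range_succ, mul_comm]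

theorem pow_scal {x : Equiv.Perm (VV m F)} {a : F} (h : ∀ v, x v = a • v) (k : ℕ) (v : VV m F) :
    (x ^ k) v = a ^ k • v := by
  induction k generalizing v with
  | zero => rw [pow_zero, pow_zero, one_smul]; rfl
  | succ k ih => rw [pow_succ, Equiv.Perm.mul_apply, ih, h, smul_smul, pow_succ]

/-- The norm of the eigenvalue and of the multiplier. -/
theorem mult_of_scal (hm : 1 ≤ m) {p : ℕ} {ρ : F ≃+* F} {c : F} {x : Equiv.Perm (VV m F)}
    (hx : IsSemi x ρ c) {e : VV m F} (he : e ≠ 0) {b : F} (h : x e = b • e) {k : ℕ}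
    (hs : IsScal F (x ^ p ^ k)) {K : ℕ} (hK : k ≤ K) :
    ∏ i ∈ Finset.range (p ^ K), (ρ ^ i) c = (∏ i ∈ Finset.range (p ^ K), (ρ ^ i) b) ^ 2 := by
  obtain ⟨lam, hlam⟩ := hs
  obtain ⟨j, rfl⟩ := Nat.exists_eq_add_of_le hK
  have h1 : ∀ v, (x ^ p ^ (k + j)) v = lam ^ p ^ j • v := by
    intro v
    rw [pow_add p, pow_mul x, pow_scal hlam]
  have h2 : lam ^ p ^ j = ∏ i ∈ Finset.range (p ^ (k + j)), (ρ ^ i) b := by
    have h3 := pow_eigen hx h (p ^ (k + j))
    rw [h1] at h3
    have h4 : (lam ^ p ^ j - ∏ i ∈ Finset.range (p ^ (k + j)), (ρ ^ i) b) • e = 0 := by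
      rw [sub_smul, h3, sub_self]
    exact sub_eq_zero.1 ((smul_eq_zero.1 h4).resolve_right he)
  rw [← h2]
  have h3 : IsSemi (x ^ p ^ (k + j)) (1 : F ≃+* F) ((lam ^ p ^ j) ^ 2) := by
    refine ⟨fun u v => ?_, fun t v => ?_, fun u v => ?_⟩
    · rw [h1, h1, h1, smul_add]
    · rw [h1, h1, smul_comm]
      rfl
    · rw [h1, h1, sympForm_smul_left, sympForm_smul_right]
      change _ = (lam ^ p ^ j) ^ 2 * sympForm m F u v
      ring
  exact (IsSemi.unique hm (isSemi_pow hx _) h3).2

theorem isSemi_conj {z : Equiv.Perm (VV m F)} {τ : F ≃+* F} {k : F} (h : IsSemi z τ k)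
    (A : Matrix.symplecticGroup (Fin m) F) : IsSemi (rho m F A * z * (rho m F A)⁻¹) τ k := by
  have h1 := ((isSemi_rho A).mul h).mul ((isSemi_rho A).inv one_ne_zero)
  have e1 : ((RingEquiv.refl F).symm.trans (τ.trans (RingEquiv.refl F))) = τ := by
    ext a; rfl
  have e2 : (1 * (RingEquiv.refl F) k * (τ.trans (RingEquiv.refl F))
      ((RingEquiv.refl F).symm (1 : F)⁻¹)) = k := by
    simp
  rw [e1, e2] at h1
  exact h1

/-- Transitivity on pairs of vectors with given non-zero product. -/
theorem exists_rho {u v u' v' : VV m F} (h : sympForm m F u v = sympForm m F u' v')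
    (h0 : sympForm m F u v ≠ 0) :
    ∃ A : Matrix.symplecticGroup (Fin m) F, rho m F A u = u' ∧ rho m F A v = v' := by
  set r := sympForm m F u v with hr
  obtain ⟨A, -, h1, h2⟩ := exists_transvGroup_hyperbolic (u := u) (v := r⁻¹ • v) (u' := u')
    (v' := r⁻¹ • v') (by rw [sympForm_smul_right, ← hr, inv_mul_cancel₀ h0])
    (by rw [sympForm_smul_right, ← h, inv_mul_cancel₀ h0])
  refine ⟨A, h1, ?_⟩
  rw [Matrix.mulVec_smul] at h2
  have := congrArg (fun w => r • w) h2
  simp only [smul_smul, mul_inv_cancel₀ h0, one_smul] at this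
  exact this

/-- **The pairs.** -/
theorem core (hm : 1 ≤ m) {p : ℕ} [Fact p.Prime] [CharP F p] (hp5 : 5 ≤ p)
    {σ τ : F ≃+* F} {l k : F} {n z : Equiv.Perm (VV m F)} (hn : IsSemi n σ l)
    (hz : IsSemi z τ k) {s : F} (hs : s ≠ 0) (h1 : ∃ f, sympForm m F f (n f) = s)
    (h2 : (∃ f, sympForm m F f (n f) = 2 * s) ∨
      (σ = 1 ∧ l = 1 ∧ ∃ f, sympForm m F f (n (n f)) = 2 * s))
    (hu : ∃ u, sympForm m F u (z u) ≠ 0) :
    ∃ (A : Matrix.symplecticGroup (Fin m) F) (i : ℕ), ∀ k : ℕ,
      ¬ IsScal F ((n ^ i * (rho m F A * z * (rho m F A)⁻¹)) ^ p ^ k) := by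
  have t2 : (2 : F) ≠ 0 := two_ne (p := p) Fact.out (by omega)
  have t3 : (3 : F) ≠ 0 := by
    intro h3
    have h4 : ((3 : ℕ) : F) = 0 := by exact_mod_cast h3
    rw [CharP.cast_eq_zero_iff F p] at h4
    have := Nat.le_of_dvd (by norm_num) h4
    omega
  by_contra hcon
  push Not at hcon
  obtain ⟨u, hu⟩ := hu
  set r := sympForm m F u (z u) with hr
  -- the general move
  have move : ∀ (i : ℕ) (φ : F ≃+* F) (l' : F) (hi : IsSemi (n ^ i) φ l') (f : VV m F) (w : F),
      w ≠ 0 → sympForm m F f ((n ^ i) f) = w →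
      ∃ x : Equiv.Perm (VV m F), IsSemi x (φ * τ) (l' * φ k) ∧ (∃ j, IsScal F (x ^ p ^ j)) ∧
        ∃ e : VV m F, e ≠ 0 ∧ x e = φ (-(r / w)) • e := by
    intro i φ l' hi f w hw hf
    obtain ⟨A, hA1, hA2⟩ := exists_rho (u := u) (v := z u) (u' := (n ^ i) f)
      (v' := (-(r / w)) • f) (by
        rw [← hr, sympForm_smul_right, sympForm_swap, hf]
        field_simp) hu
    refine ⟨n ^ i * (rho m F A * z * (rho m F A)⁻¹), hi.mul (isSemi_conj hz A), hcon A i,
      (n ^ i) f, ?_, ?_⟩
    · intro h0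
      apply hw
      rw [← hf, h0, sympForm_zero_right]
    · change (n ^ i) (rho m F A (z ((rho m F A)⁻¹ ((n ^ i) f)))) = _
      have h4 : (rho m F A)⁻¹ ((n ^ i) f) = u := by
        rw [← hA1]
        exact (rho m F A).symm_apply_apply u
      rw [h4, hA2, hi.2.1]
  obtain ⟨f1, hf1⟩ := h1
  have hn1 : IsSemi (n ^ 1) σ l := by rw [pow_one]; exact hn
  obtain ⟨x1, hx1, ⟨j1, hj1⟩, e1, he1, hxe1⟩ := move 1 σ l hn1 f1 s hs (by rw [pow_one]; exact hf1)
  obtain ⟨x2, hx2, ⟨j2, hj2⟩, e2, he2, hxe2⟩ : ∃ x : Equiv.Perm (VV m F),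
      IsSemi x (σ * τ) (l * σ k) ∧ (∃ j, IsScal F (x ^ p ^ j)) ∧
        ∃ e : VV m F, e ≠ 0 ∧ x e = σ (-(r / (2 * s))) • e := by
    rcases h2 with ⟨f2, hf2⟩ | ⟨rfl, rfl, f2, hf2⟩
    · exact move 1 σ l hn1 f2 (2 * s) (mul_ne_zero t2 hs) (by rw [pow_one]; exact hf2)
    · have hn2 : IsSemi (n ^ 2) (1 : F ≃+* F) 1 := by
        have h3 := isSemi_pow hn 2
        simpa using h3
      exact move 2 1 1 hn2 f2 (2 * s) (mul_ne_zero t2 hs) hf2
  have r1 := mult_of_scal hm hx1 he1 hxe1 hj1 (le_max_left j1 j2)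
  have r2 := mult_of_scal hm hx2 he2 hxe2 hj2 (le_max_right j1 j2)
  rw [r1] at r2
  set K := max j1 j2 with hK
  set ρ := σ * τ with hρ
  have h3 : ∏ i ∈ Finset.range (p ^ K), (ρ ^ i) (σ (-(r / s))) =
      2 * ∏ i ∈ Finset.range (p ^ K), (ρ ^ i) (σ (-(r / (2 * s)))) := by
    have h4 : ∀ i, (ρ ^ i) (σ (-(r / s))) = 2 * (ρ ^ i) (σ (-(r / (2 * s)))) := by
      intro i
      rw [show -(r / s) = 2 * (-(r / (2 * s))) by field_simp, map_mul, map_mul, map_ofNat,
        map_ofNat]
    rw [Finset.prod_congr rfl fun i _ => h4 i, Finset.prod_mul_distrib, Finset.prod_const,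
      Finset.card_range]
    congr 1
    -- `2 ^ p ^ K = 2`
    have h5 : ∀ K : ℕ, (2 : F) ^ p ^ K = 2 := by
      intro K
      induction K with
      | zero => rw [pow_zero, pow_one]
      | succ K ih =>
        rw [pow_succ, pow_mul, ih]
        have := map_ofNat (frobenius F p) 2
        rwa [frobenius_def] at this
    exact h5 K
  rw [h3] at r2
  set P := ∏ i ∈ Finset.range (p ^ K), (ρ ^ i) (σ (-(r / (2 * s)))) with hP
  have hP0 : P ≠ 0 := by
    rw [hP, Finset.prod_ne_zero_iff]
    intro i _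
    rw [Ne, EmbeddingLike.map_eq_zero_iff, EmbeddingLike.map_eq_zero_iff, neg_eq_zero]
    exact div_ne_zero hu (mul_ne_zero t2 hs)
  have h4 : 3 * P ^ 2 = 0 := by linear_combination r2
  rcases mul_eq_zero.1 h4 with h | h
  · exact t3 h
  · exact hP0 (pow_eq_zero_iff (by norm_num) |>.1 h)

end Cfsg.Agent.H194.MOwn.Spo
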